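/-
Kernel checks on the roots of E8 graded by the coefficient of the branch node.
-/
import Cfsg.Agent.Lib.Lie.Chev.All

set_option autoImplicit false

namespace CfsgLib.Geo.E8Core

open Cfsg.Lie CfsgLib.Lie.Chev

/-- The level of a root: the coefficient of the branch node. -/
def lev (r : ℕ) : ℤ := auxE8.coef 3 r

/-- The height of a root, with the branch node counted 101 times. -/
def phi (r : ℕ) : ℤ :=
  auxE8.coef 0 r + auxE8.coef 1 r + auxE8.coef 2 r + 101 * auxE8.coef 3 r + auxE8.coef 4 r + auxE8.coef 5 r +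
    auxE8.coef 6 r + auxE8.coef 7 r

/-- The highest root of each positive level. -/
def top (l : ℤ) : ℕ := [129, 173, 193, 213, 230, 234, 239].getD l.toNat 0

/-- Bounds on levels and weights. -/
def okBasic : Bool :=
  (List.range 240).all fun r =>
    decide (lev r ≤ 6) && decide (-29 ≤ phi r - 100 * lev r) && decide (phi r - 100 * lev r ≤ 29) &&
      (decide (lev r < 1) || decide (1 ≤ phi r - 100 * lev r)) &&
      (decide (1 ≤ phi r) == decide (120 ≤ r))

/-- The reflection in the branch node lowers a level by at most one, and lowers some root of each level. -/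
def okRefl : Bool :=
  ((List.range 240).all fun r => decide (lev r < 2) || decide (lev r - 1 ≤ lev (auxE8.w 3 r))) &&
    [130, 152, 194, 214, 224, 235].all fun r =>
      decide (lev (auxE8.w 3 r) < lev r) && decide (1 ≤ lev r)

/-- The roots lowered by the reflection in the branch node, by level. -/
def drop (l : ℤ) : ℕ := [0, 130, 152, 194, 214, 224, 235].getD l.toNat 0

/-- The commutator of two root elements is a single root element with odd coefficient. -/
def single (r s : ℕ) (P : ℕ → Bool) : Bool :=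
  match chevE8.commTerms r s with
  | [(d, c, 1, 1)] => decide (c % 2 = 1) && P d
  | _ => false

/-- Each positive level root is the top one, or is raised by a fundamental root of the Levi subgroup. -/
def okRaise : Bool :=
  (List.range 240).all fun r => decide (lev r < 1) ||
    (decide (phi r ≤ phi (top (lev r))) &&
      (decide (r = top (lev r)) ||
        ((decide (phi r < phi (top (lev r)))) &&
          ([0, 1, 2, 4, 5, 6, 7].any fun j => single r (chevE8.simple j) fun d => decide (lev d = lev r)) &&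
          ([0, 1, 2, 4, 5, 6, 7].any fun j => decide (lev (auxE8.w j r) = lev r) && decide (r < auxE8.w j r)))))

/-- The tops and drops have the right levels. -/
def okTops : Bool :=
  [1, 2, 3, 4, 5, 6].all fun l => decide (lev (top l) = l) && decide (top l < 240) && decide (lev (drop l) = l) &&
    decide (drop l < 240)

/-- Every positive root of level zero adds to a root of level one. -/
def okFaithful : Bool :=
  (List.range 240).all fun r => decide (lev r ≠ 0) || decide (r < 120) ||
    ((List.range 240).any fun b => decide (lev b = 1) && single r b fun d => decide (lev d = 1))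

/-- Level one spans the root lattice. -/
def okSpan : Bool :=
  [0, 1, 2, 4, 5, 6, 7].all fun i =>
    (List.range 240).any fun b => decide (lev b = 1) && decide (lev (auxE8.w i b) = 1) &&
      (List.range 8).all fun k => decide (auxE8.coef k (auxE8.w i b) = auxE8.coef k b + if k = i then 1 else 0)

/-- An injective code of the roots. -/
def rootCode (r : ℕ) : ℤ :=
  (List.range 8).foldr (fun k a => a * 16 + (auxE8.coef k r + 7)) 0

theorem basic_ok : okBasic = true := by decide +kernel
theorem refl_ok : okRefl = true := by decide +kernel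
theorem raise_ok : okRaise = true := by decide +kernel
theorem tops_ok : okTops = true := by decide +kernel
theorem faithful_ok : okFaithful = true := by decide +kernel
theorem span_ok : okSpan = true := by decide +kernel
theorem code_ok : ((List.range 240).map rootCode).Nodup := by decide +kernel

theorem basic {r : ℕ} (hr : r < 240) :
    lev r ≤ 6 ∧ -29 ≤ phi r - 100 * lev r ∧ phi r - 100 * lev r ≤ 29 ∧ (1 ≤ lev r → 1 ≤ phi r - 100 * lev r) ∧
      (1 ≤ phi r ↔ 120 ≤ r) := by
  have h := List.all_eq_true.1 basic_ok r (List.mem_range.2 hr)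
  simp only [Bool.and_eq_true, Bool.or_eq_true, beq_iff_eq, decide_eq_true_eq, decide_eq_decide] at h
  obtain ⟨⟨⟨⟨h1, h2⟩, h3⟩, h4⟩, h5⟩ := h
  exact ⟨h1, h2, h3, fun h => h4.resolve_left (by omega), h5⟩

theorem refl_lev {r : ℕ} (hr : r < 240) (h : 2 ≤ lev r) : lev r - 1 ≤ lev (auxE8.w 3 r) := by
  have h1 := refl_ok
  simp only [okRefl, Bool.and_eq_true, List.all_eq_true, Bool.or_eq_true, decide_eq_true_eq] at h1
  exact (h1.1 r (List.mem_range.2 hr)).resolve_left (by omega)

theorem tops {l : ℤ} (h1 : 1 ≤ l) (h6 : l ≤ 6) :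
    lev (top l) = l ∧ top l < 240 ∧ lev (drop l) = l ∧ drop l < 240 := by
  have h := tops_ok
  simp only [okTops, Bool.and_eq_true, List.all_eq_true, decide_eq_true_eq] at h
  obtain ⟨⟨⟨a, b⟩, c⟩, d⟩ := h l (by
    obtain rfl | rfl | rfl | rfl | rfl | rfl : l = 1 ∨ l = 2 ∨ l = 3 ∨ l = 4 ∨ l = 5 ∨ l = 6 := by omega
    all_goals decide)
  exact ⟨a, b, c, d⟩

theorem drop_lev {l : ℤ} (h1 : 1 ≤ l) (h6 : l ≤ 6) : lev (auxE8.w 3 (drop l)) < l := by
  have h := refl_ok
  simp only [okRefl, Bool.and_eq_true, List.all_eq_true, decide_eq_true_eq] at h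
  have h2 := (h.2 (drop l) (by
    obtain rfl | rfl | rfl | rfl | rfl | rfl : l = 1 ∨ l = 2 ∨ l = 3 ∨ l = 4 ∨ l = 5 ∨ l = 6 := by omega
    all_goals decide)).1
  rwa [(tops h1 h6).2.2.1] at h2

theorem single_spec {r s : ℕ} {P : ℕ → Bool} (h : single r s P = true) :
    ∃ d c, chevE8.commTerms r s = [(d, c, 1, 1)] ∧ c % 2 = 1 ∧ P d = true := by
  unfold single at h
  split at h
  · rename_i d c heq
    simp only [Bool.and_eq_true, decide_eq_true_eq] at h
    exact ⟨d, c, heq, h⟩
  · exact absurd h Bool.false_ne_true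

theorem raise {r : ℕ} (hr : r < 240) (h : 1 ≤ lev r) :
    phi r ≤ phi (top (lev r)) ∧ (r = top (lev r) ∨
      (phi r < phi (top (lev r)) ∧
        (∃ j < 8, j ≠ 3 ∧ ∃ d c, chevE8.commTerms r (chevE8.simple j) = [(d, c, 1, 1)] ∧ c % 2 = 1 ∧ lev d = lev r) ∧
        ∃ j < 8, j ≠ 3 ∧ lev (auxE8.w j r) = lev r ∧ r < auxE8.w j r)) := by
  have hj : ∀ j ∈ [0, 1, 2, 4, 5, 6, 7], j < 8 ∧ j ≠ 3 := by decide
  have h1 := List.all_eq_true.1 raise_ok r (List.mem_range.2 hr)
  simp only [Bool.and_eq_true, Bool.or_eq_true, List.any_eq_true, decide_eq_true_eq] at h1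
  obtain ⟨h2, h3⟩ := h1.resolve_left (by omega)
  refine ⟨h2, h3.imp id ?_⟩
  rintro ⟨⟨h4, j, hj1, h5⟩, k, hk, h6⟩
  obtain ⟨d, c, e1, e2, e3⟩ := single_spec h5
  exact ⟨h4, ⟨j, (hj j hj1).1, (hj j hj1).2, d, c, e1, e2, by simpa using e3⟩,
    k, (hj k hk).1, (hj k hk).2, h6⟩

theorem faithful {r : ℕ} (hr : r < 240) (h0 : lev r = 0) (hp : 120 ≤ r) :
    ∃ b < 240, lev b = 1 ∧ ∃ d c, chevE8.commTerms r b = [(d, c, 1, 1)] ∧ c % 2 = 1 ∧ lev d = 1 := by
  have h1 := List.all_eq_true.1 faithful_ok r (List.mem_range.2 hr)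
  simp only [Bool.and_eq_true, Bool.or_eq_true, List.any_eq_true, decide_eq_true_eq, List.mem_range] at h1
  obtain ⟨b, hb, h2, h3⟩ := h1.resolve_left (by omega)
  obtain ⟨d, c, e1, e2, e3⟩ := single_spec h3
  exact ⟨b, hb, h2, d, c, e1, e2, by simpa using e3⟩

theorem span {i : ℕ} (hi : i < 8) (h3 : i ≠ 3) :
    ∃ b < 240, lev b = 1 ∧ lev (auxE8.w i b) = 1 ∧
      ∀ k < 8, auxE8.coef k (auxE8.w i b) = auxE8.coef k b + if k = i then 1 else 0 := by
  have hmem : i ∈ [0, 1, 2, 4, 5, 6, 7] := by
    obtain rfl | rfl | rfl | rfl | rfl | rfl | rfl :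
        i = 0 ∨ i = 1 ∨ i = 2 ∨ i = 4 ∨ i = 5 ∨ i = 6 ∨ i = 7 := by omega
    all_goals decide
  have h := List.all_eq_true.1 span_ok i hmem
  simp only [Bool.and_eq_true, List.any_eq_true, List.all_eq_true, decide_eq_true_eq, List.mem_range] at h
  obtain ⟨b, hb, ⟨h1, h2⟩, h3⟩ := h
  exact ⟨b, hb, h1, h2, h3⟩

theorem coef_inj {r s : ℕ} (hr : r < 240) (hs : s < 240) (h : ∀ k < 8, auxE8.coef k r = auxE8.coef k s) :
    r = s := by
  refine List.inj_on_of_nodup_map code_ok (List.mem_range.2 hr) (List.mem_range.2 hs) ?_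
  simp only [rootCode, List.range_succ, List.range_zero, List.nil_append, List.cons_append, List.foldr_cons,
    List.foldr_nil]
  rw [h 0 (by norm_num), h 1 (by norm_num), h 2 (by norm_num), h 3 (by norm_num), h 4 (by norm_num), h 5 (by norm_num),
    h 6 (by norm_num), h 7 (by norm_num)]

end CfsgLib.Geo.E8Core
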