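/-
Leading coefficients along a grading of a group with Chevalley relations over the field with two elements.
-/
import Cfsg.Agent.Lib.Lie.Rel.Parabolic

set_option autoImplicit false

namespace CfsgLib.Geo.E8Core

open Cfsg.Lie (ChevalleyDatum)
open CfsgLib.Lie.Chev
open scoped Matrix

variable {D : ChevalleyDatum} {X : Aux} {G : Type*} [Group G] (R : Rel D X (ZMod 2) G) (lam : Fin D.rank → ℤ)

theorem zmod_two_cases (t : ZMod 2) : t = 0 ∨ t = 1 := by revert t; decide

theorem ne_simple_eq (i : Fin D.rank) :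
    R.ne (D.simple i) 1 = R.xe (R.sroot i) 1 * R.xe (R.negF (R.sroot i)) 1 * R.xe (R.sroot i) 1 := by
  show R.xe _ 1 * R.xe _ (-1⁻¹) * R.xe _ 1 = _
  rw [inv_one, show (-1 : ZMod 2) = 1 by decide]
  rfl

theorem coef_negF (r : Fin D.nroots) {j : ℕ} (hj : j < D.rank) :
    X.coef j (R.negF r : ℕ) = - X.coef j (r : ℕ) := R.cert.coef_neg r.2 hj

theorem commWord_mem {T : Set (Fin D.nroots)} (r s : Fin D.nroots) (t u : ZMod 2)
    (hT : ∀ c ∈ D.commTerms r s, ∀ h : c.1 < D.nroots, (⟨c.1, h⟩ : Fin D.nroots) ∈ T) :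
    ((D.commWord (ZMod 2) r s t u).map fun p => R.xe p.1 p.2).prod ∈ R.US T := by
  refine list_prod_mem fun z hz => ?_
  simp only [ChevalleyDatum.commWord, List.map_map, List.mem_map, Function.comp_apply] at hz
  obtain ⟨c, hc, rfl⟩ := hz
  have hlt := (R.cert.commTerms_props r.2 s.2 c hc).1
  exact R.xe_mem_US (hT c hc hlt) _

/-- The subgroup of weight at least `m`. -/
def Phi (m : ℤ) : Subgroup G := R.US (hSet D X lam m)

/-- A coordinate detecting a root. -/
noncomputable def aOf (r : Fin D.nroots) : Fin D.rank :=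
  Classical.choose (R.exists_cor_ne_zero r.2)

/-- The coefficient of a root in the matrix of an element. -/
noncomputable def chi (r : Fin D.nroots) (v : G) : ZMod 2 :=
  R.mat v (Sum.inl (aOf R r)) (Sum.inr ⟨D.neg r, R.cert.neg_lt r.2⟩)

theorem phi_le {m k : ℤ} (h : m ≤ k) : Phi R lam k ≤ Phi R lam m :=
  R.US_mono fun r (hr : k ≤ hgt D X lam r) => show m ≤ hgt D X lam r by omega

theorem xe_mem_phi {m : ℤ} {r : Fin D.nroots} (h : m ≤ hgt D X lam r) (t : ZMod 2) : R.xe r t ∈ Phi R lam m :=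
  R.xe_mem_US h t

theorem chi_xe (r s : Fin D.nroots) (t : ZMod 2) : chi R r (R.xe s t) = if r = s then t else 0 := by
  rw [chi, R.mat_xe, R.cert.xM_inl_inr s.2]
  have hcor : (X.cor (aOf R r) r : ZMod 2) = 1 :=
    (zmod_two_cases _).resolve_left (Classical.choose_spec (R.exists_cor_ne_zero r.2))
  by_cases h : r = s
  · subst h
    rw [if_pos rfl, if_pos rfl, hcor, one_mul]
  · rw [if_neg h, if_neg]
    intro e
    exact h (Fin.ext (by rw [← R.cert.neg_neg r.2, show D.neg r = D.neg s from e, R.cert.neg_neg s.2]))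

theorem chi_one (r : Fin D.nroots) : chi R r 1 = 0 := by
  rw [chi, R.mat_one, Matrix.one_apply_ne Sum.inl_ne_inr]

theorem chi_add {m k : ℤ} (hm : 1 ≤ m) (hk : 1 ≤ k) {v w : G} (hv : v ∈ Phi R lam m) (hw : w ∈ Phi R lam k)
    {r : Fin D.nroots} (hr : hgt D X lam r < m + k) : chi R r (v * w) = chi R r v + chi R r w := by
  have hM := (R.toRaw.isGr_mem lam hm (S := hSet D X lam m) subset_rfl hv).1
  have hN := (R.toRaw.isGr_mem lam hk (S := hSet D X lam k) subset_rfl hw).1
  show R.mat (v * w) _ _ = R.mat v _ _ + R.mat w _ _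
  rw [R.mat_mul, Matrix.mul_apply]
  set a : D.Idx := Sum.inl (aOf R r)
  set b : D.Idx := Sum.inr ⟨D.neg r, R.cert.neg_lt r.2⟩
  have hab : a ≠ b := Sum.inl_ne_inr
  have hwt : RawRel.wt X lam a < RawRel.wt X lam b + (m + k) := by
    simp only [RawRel.wt, a, b, Sum.elim_inl, Sum.elim_inr]
    rw [show hgt D X lam (D.neg r) = - hgt D X lam r from R.toRaw.hgt_neg lam r.2]
    omega
  rw [Finset.sum_eq_add a b hab]
  · rw [show R.mat v a a = 1 from hM.1 a, show R.mat w b b = 1 from hN.1 b, one_mul, mul_one, add_comm]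
  · intro c _ hc
    by_cases h : RawRel.wt X lam a < RawRel.wt X lam c + m
    · rw [show R.mat v a c = 0 from hM.2 a c (Ne.symm hc.1) h, zero_mul]
    · rw [show R.mat w c b = 0 from hN.2 c b hc.2 (by omega), mul_zero]
  · simp
  · simp

theorem chi_eq_zero {m : ℤ} (hm : 1 ≤ m) {v : G} (hv : v ∈ Phi R lam (m + 1)) {r : Fin D.nroots}
    (hr : hgt D X lam r = m) : chi R r v = 0 :=
  (R.toRaw.isGr_mem lam hm (S := hSet D X lam (m + 1))
    (fun s (hs : m + 1 ≤ hgt D X lam s) => show m ≤ hgt D X lam s by omega) hv).2 r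
    (fun h => by have h' : m + 1 ≤ hgt D X lam r := h; omega) hr _

/-- An element is one step deeper unless one of its leading coefficients is non-zero. -/
theorem mem_succ_of_chi {m : ℤ} (hm : 1 ≤ m) {v : G} (hv : v ∈ Phi R lam m)
    (h0 : ∀ r : Fin D.nroots, hgt D X lam r = m → chi R r v = 0) : v ∈ Phi R lam (m + 1) := by
  classical
  suffices h : ∀ A : Finset (Fin D.nroots), (∀ r ∈ A, hgt D X lam r = m) →
      ∀ v ∈ R.US (hSet D X lam (m + 1) ∪ ↑A), (∀ r : Fin D.nroots, hgt D X lam r = m → chi R r v = 0) →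
        v ∈ R.US (hSet D X lam (m + 1)) by
    refine h (Finset.univ.filter fun r : Fin D.nroots => hgt D X lam r = m)
      (fun r hr => (Finset.mem_filter.1 hr).2) v (R.US_mono (fun r hr => ?_) hv) h0
    have hr' : m ≤ hgt D X lam r := hr
    rcases hr'.lt_or_eq with h | h
    · exact Or.inl (show m + 1 ≤ hgt D X lam r by omega)
    · exact Or.inr (by simp [h])
  intro A
  induction A using Finset.induction_on with
  | empty => intro _ v hv _; simpa using hv
  | insert r A hrA ih =>
    intro hA v hv h0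
    have hA' : ∀ s ∈ A, hgt D X lam s = m := fun s hs => hA s (Finset.mem_insert_of_mem hs)
    have hr := hA r (Finset.mem_insert_self r A)
    rw [Finset.coe_insert] at hv
    obtain ⟨t, w, hw, rfl⟩ := R.toRaw.exists_level_split lam hm (A := ↑A) hA' hr hv
    have hsub : hSet D X lam (m + 1) ∪ ↑A ⊆ hSet D X lam m := by
      rintro s (h | h)
      · have : m + 1 ≤ hgt D X lam s := h
        show m ≤ _; omega
      · exact (hA' s h).ge
    have hnot : r ∉ hSet D X lam (m + 1) ∪ ↑A := by
      rintro (h | h)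
      · have : m + 1 ≤ hgt D X lam r := h
        omega
      · exact hrA h
    have hw0 : chi R r w = 0 := (R.toRaw.isGr_mem lam hm hsub hw).2 r hnot hr _
    have h1 := chi_add R lam hm hm (xe_mem_phi R lam hr.ge t) (R.US_mono hsub hw) (r := r) (by omega)
    rw [chi_xe, if_pos rfl, hw0, add_zero, show R.xe (r : ℕ) t = R.toRaw.xe r t from rfl, h0 r hr] at h1
    have ht : t = 0 := h1.symm
    rw [show R.toRaw.xe (r : ℕ) t = 1 by rw [ht]; exact R.xe_zero r, one_mul] at h0 ⊢
    exact ih hA' w hw h0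

/-- A root element lies in no deeper subgroup. -/
theorem le_of_xe_mem {k : ℤ} {r : Fin D.nroots} (hr : 1 ≤ hgt D X lam r) (h : R.xe r 1 ∈ Phi R lam k) :
    k ≤ hgt D X lam r := by
  by_contra hc
  have h1 := chi_eq_zero R lam hr (phi_le R lam (show hgt D X lam r + 1 ≤ k by omega) h) rfl
  rw [chi_xe, if_pos rfl] at h1
  exact one_ne_zero h1

/-- Roots of weight at least zero normalise the filtration. -/
theorem normalize_phi {m : ℤ} (hm : 1 ≤ m) {s : Fin D.nroots} (hs : 0 ≤ hgt D X lam s) (u : ZMod 2) :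
    R.xe s u ∈ Subgroup.normalizer (Phi R lam m : Set G) := by
  refine R.xe_mem_normalizer (fun r (hr : m ≤ hgt D X lam r) t v => ?_) u
  by_cases hsr : s = r
  · subst hsr
    rw [← R.xe_neg, R.xe_add', R.xe_add']
    exact R.xe_mem_US (show m ≤ hgt D X lam s from hr) _
  · refine R.xe_conj_mem hsr ?_ hr (fun c hc hlt => ?_) t v
    · intro e
      rw [e, show hgt D X lam (R.negF r : ℕ) = - hgt D X lam r from R.toRaw.hgt_neg lam r.2] at hs
      omega
    · show m ≤ hgt D X lam c.1
      obtain ⟨_, h1, h2, _, _⟩ := R.cert.commTerms_props r.2 s.2 c hc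
      rw [R.toRaw.hgt_comm lam hc]
      nlinarith [show (1 : ℤ) ≤ c.2.2.1 by exact_mod_cast h1, show (1 : ℤ) ≤ c.2.2.2 by exact_mod_cast h2]

theorem conj_mem_phi {m k : ℤ} (hm : 1 ≤ m) (hk : 1 ≤ k) {x z : G} (hx : x ∈ Phi R lam m) (hz : z ∈ Phi R lam k) :
    x * z * x⁻¹ ∈ Phi R lam k := by
  have hle : Phi R lam m ≤ Subgroup.normalizer (Phi R lam k : Set G) :=
    R.US_le fun s (hs : m ≤ hgt D X lam s) u => normalize_phi R lam hk (by omega) u
  exact (Subgroup.mem_normalizer_iff.1 (hle hx) z).1 hz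

/-- The leading coefficient of a commutator with a root element. -/
theorem comm_chi {m h : ℤ} (hm : 1 ≤ m) (hh : 1 ≤ h) {r s d : Fin D.nroots} {c : ℤ}
    (hr : hgt D X lam r = m) (hs : hgt D X lam s = h) (hcomm : D.commTerms r s = [((d : ℕ), c, 1, 1)])
    (hodd : c % 2 = 1) (hrs : r ≠ s) (hinj : ∀ a b : Fin D.nroots, (∀ j < D.rank, X.coef j a = X.coef j b) → a = b)
    {v : G} (hv : v ∈ Phi R lam m) :
    v * R.xe s 1 * v⁻¹ * (R.xe s 1)⁻¹ ∈ Phi R lam (m + h) ∧
      chi R d (v * R.xe s 1 * v⁻¹ * (R.xe s 1)⁻¹) = chi R r v := by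
  have hd : hgt D X lam d = m + h := by
    have := R.toRaw.hgt_comm lam (r := r) (s := s) (c := ((d : ℕ), c, 1, 1)) (by rw [hcomm]; simp)
    rw [this, hr, hs]; simp
  have hdc : ∀ j < D.rank, X.coef j d = X.coef j r + X.coef j s := fun j hj => by
    have := (R.cert.commTerms_props r.2 s.2 ((d : ℕ), c, 1, 1) (by rw [hcomm]; simp)).2.2.2.2 j hj
    simpa using this
  suffices H : v ∈ Phi R lam m ∧ v * R.xe s 1 * v⁻¹ * (R.xe s 1)⁻¹ ∈ Phi R lam (m + h) ∧
      chi R d (v * R.xe s 1 * v⁻¹ * (R.xe s 1)⁻¹) = chi R r v from H.2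
  refine closure_induction_symm R.gens_symm ?h1 ?hmul hv
  case h1 =>
    refine ⟨one_mem _, ?_, ?_⟩
    · simp
    · simp [chi_one]
  case hmul =>
    intro x hx y ih
    obtain ⟨r', hr', t, rfl⟩ := hx
    obtain ⟨hy, hy1, hy2⟩ := ih
    have hr'' : m ≤ hgt D X lam r' := hr'
    have hxm : R.xe r' t ∈ Phi R lam m := xe_mem_phi R lam hr'' t
    -- the generator
    have hgen : R.xe r' t * R.xe s 1 * (R.xe r' t)⁻¹ * (R.xe s 1)⁻¹ ∈ Phi R lam (m + h) ∧
        chi R d (R.xe r' t * R.xe s 1 * (R.xe r' t)⁻¹ * (R.xe s 1)⁻¹) = chi R r (R.xe r' t) := by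
      rw [chi_xe]
      by_cases hsr : s = r'
      · subst hsr
        have e : R.xe s t * R.xe s 1 * (R.xe s t)⁻¹ * (R.xe s 1)⁻¹ = 1 := by
          rw [R.xe_add', add_comm, ← R.xe_add', mul_inv_cancel_right, mul_inv_cancel]
        rw [e]
        refine ⟨one_mem _, ?_⟩
        rw [chi_one, if_neg hrs]
      · have hne : s ≠ R.negF r' := fun e => by
          rw [e, show hgt D X lam (R.negF r' : ℕ) = - hgt D X lam r' from R.toRaw.hgt_neg lam r'.2] at hs
          omega
        have hcm := R.xe_comm r' s t 1 r'.2 s.2 (fun e => hsr (Fin.ext e)) (fun e => hne (Fin.ext e))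
        set L := (D.commWord (ZMod 2) r' s t 1).map fun p => R.xe p.1 p.2 with hL
        have e : R.xe r' t * R.xe s 1 * (R.xe r' t)⁻¹ * (R.xe s 1)⁻¹ = L.prod⁻¹ := by
          have h' : L.prod = (R.xe (s : ℕ) 1)⁻¹ * (R.xe (r' : ℕ) t)⁻¹ * (R.xe (s : ℕ) 1 * R.xe (r' : ℕ) t) := by
            rw [hcm]; group
          have hself : ∀ (k : ℕ) (a : ZMod 2), (R.xe k a)⁻¹ = R.xe k a := fun k a => by
            rw [← R.xe_neg, CharTwo.neg_eq]
          rw [h']
          simp only [mul_inv_rev, hself, inv_inv, mul_assoc]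
        rw [e]
        have key : ∀ p ∈ L, p ∈ Phi R lam (m + h) ∧ (r ≠ r' → chi R d p = 0) := by
          intro p hp
          simp only [hL, ChevalleyDatum.commWord, List.map_map, List.mem_map, Function.comp_apply] at hp
          obtain ⟨c', hc', rfl⟩ := hp
          obtain ⟨hlt, h1, h2, _, h5⟩ := R.cert.commTerms_props r'.2 s.2 c' hc'
          have hφ := R.toRaw.hgt_comm lam (r := r') (s := s) hc'
          have h1' : (1 : ℤ) ≤ c'.2.2.1 := by exact_mod_cast h1
          have h2' : (1 : ℤ) ≤ c'.2.2.2 := by exact_mod_cast h2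
          have hge : m + h ≤ hgt D X lam c'.1 := by rw [hφ]; nlinarith
          refine ⟨xe_mem_phi R lam (r := ⟨c'.1, hlt⟩) hge _, fun hrr => ?_⟩
          show chi R d (R.xe ((⟨c'.1, hlt⟩ : Fin D.nroots) : ℕ) _) = 0
          rw [chi_xe, if_neg]
          rintro rfl
          rw [hφ] at hd
          have hi : (c'.2.2.1 : ℤ) = 1 := by nlinarith
          have hj : (c'.2.2.2 : ℤ) = 1 := by nlinarith
          refine hrr (hinj r r' fun j hj' => ?_)
          have e1 := h5 j hj'
          rw [hi, hj, one_mul, one_mul, hdc j hj'] at e1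
          omega
        have hprod : ∀ l : List G, (∀ p ∈ l, p ∈ Phi R lam (m + h) ∧ (r ≠ r' → chi R d p = 0)) →
            l.prod ∈ Phi R lam (m + h) ∧ (r ≠ r' → chi R d l.prod = 0) := by
          intro l
          induction l with
          | nil => exact fun _ => ⟨one_mem _, fun _ => chi_one R d⟩
          | cons p l ihl =>
            intro hl
            obtain ⟨i1, i2⟩ := ihl fun q hq => hl q (List.mem_cons_of_mem _ hq)
            obtain ⟨p1, p2⟩ := hl p List.mem_cons_self
            rw [List.prod_cons]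
            refine ⟨mul_mem p1 i1, fun hrr => ?_⟩
            rw [chi_add R lam (by omega) (by omega) p1 i1 (by omega), p2 hrr, i2 hrr, add_zero]
        obtain ⟨hmem, hzero⟩ := hprod L key
        refine ⟨inv_mem hmem, ?_⟩
        have hinv : chi R d L.prod⁻¹ = chi R d L.prod := by
          have := chi_add R lam (by omega) (by omega) (inv_mem hmem) hmem (r := d) (by omega)
          rw [inv_mul_cancel, chi_one] at this
          exact (CharTwo.add_eq_zero.1 this.symm)
        rw [hinv]
        by_cases hrr : r = r'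
        · subst hrr
          rw [if_pos rfl, hL, ChevalleyDatum.commWord, hcomm]
          simp only [List.map_cons, List.map_nil, List.prod_cons, List.prod_nil, mul_one, pow_one]
          rw [chi_xe, if_pos rfl, CharTwo.neg_eq]
          have : (c : ZMod 2) = 1 := by
            rw [← Int.emod_add_mul_ediv c 2, hodd]
            push_cast
            rw [show (2 : ZMod 2) = 0 from rfl, zero_mul, add_zero]
          rw [this, one_mul]
        · rw [if_neg hrr, hzero hrr]
    refine ⟨mul_mem hxm hy, ?_⟩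
    have e : R.xe r' t * y * R.xe s 1 * (R.xe r' t * y)⁻¹ * (R.xe s 1)⁻¹ =
        R.xe r' t * (y * R.xe s 1 * y⁻¹ * (R.xe s 1)⁻¹) * (R.xe r' t)⁻¹ *
          (R.xe r' t * R.xe s 1 * (R.xe r' t)⁻¹ * (R.xe s 1)⁻¹) := by group
    rw [e]
    have hz := conj_mem_phi R lam hm (by omega) hxm hy1
    refine ⟨mul_mem hz hgen.1, ?_⟩
    rw [chi_add R lam (by omega) (by omega) hz hgen.1 (by omega), hgen.2, chi_add R lam hm hm hxm hy (by omega), ← hy2,
      add_comm]
    congr 1
    -- conjugation fixes the leading coefficient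
    set z := y * R.xe s 1 * y⁻¹ * (R.xe s 1)⁻¹
    have e1 := chi_add R lam (m := m + h) (k := m) (r := d) (by omega) hm hz hxm (by omega)
    have e2 := chi_add R lam (m := m) (k := m + h) (r := d) hm (by omega) hxm hy1 (by omega)
    rw [show R.xe r' t * z * (R.xe r' t)⁻¹ * R.xe r' t = R.xe r' t * z by group, e2, add_comm] at e1
    exact (add_right_cancel e1).symm

end CfsgLib.Geo.E8Core
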