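/-
The parabolic subgroup of the branch node of E8(2) and its conjugate by the branch reflection.
-/
import Cfsg.Agent.Lib.Geo.E8Core.Data
import Cfsg.Agent.Lib.Geo.E8Core.Levels
import Cfsg.Agent.Lib.Lie.Rel.ParabolicFacts
import Cfsg.Agent.Lib.Lie.Rel.Facts

set_option autoImplicit false

namespace CfsgLib.Geo.E8Core

open Cfsg.Lie CfsgLib.Lie.Chev

attribute [local irreducible] Cfsg.Lie.ChevalleyDatum.neg

/-- E8(2). -/
abbrev GG : Type := ↥(chevE8.group (ZMod 2))

/-- Its relation system. -/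
noncomputable def RR : Rel chevE8 auxE8 (ZMod 2) GG := chevRel certE8 (ZMod 2)

/-- The weight. -/
def lamP : Fin chevE8.rank → ℤ := fun k => if (k : ℕ) = 3 then 101 else 1

/-- The fundamental roots of the Levi subgroup. -/
def JJ : Set ℕ := {i | i ≠ 3}

/-- The branch node. -/
def br : Fin chevE8.rank := ⟨3, by decide⟩

/-- The branch reflection. -/
noncomputable def gg : GG := RR.ne (chevE8.simple (br : ℕ)) 1

/-- The parabolic subgroup. -/
noncomputable def PP : Subgroup GG := RR.PJ JJ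

/-- The subgroup of level at least `l`. -/
noncomputable def UL (l : ℤ) : Subgroup GG := Phi RR lamP (100 * l)

theorem rank_eq : chevE8.rank = 8 := rfl

theorem nroots_eq : chevE8.nroots = 240 := rfl

theorem lt240 (r : Fin chevE8.nroots) : (r : ℕ) < 240 := r.2

theorem half_eq : half chevE8 = 120 := rfl

theorem hgt_eq (r : ℕ) : hgt chevE8 auxE8 lamP r = phi r := by
  show (∑ k : Fin 8, (if (k : ℕ) = 3 then (101 : ℤ) else 1) * auxE8.coef k r) = _
  simp only [Fin.sum_univ_eight, phi, Fin.val_zero, Fin.val_one, Fin.val_two]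
  norm_num [Fin.coe_ofNat_eq_mod]

theorem inj_roots (a b : Fin chevE8.nroots) (h : ∀ j < chevE8.rank, auxE8.coef j a = auxE8.coef j b) : a = b :=
  Fin.ext (coef_inj (lt240 a) (lt240 b) h)

theorem desc : Desc chevE8 auxE8 := desc_of_chk (by decide +kernel)

theorem set_level {l : ℤ} (hl : 1 ≤ l) :
    hSet chevE8 auxE8 lamP (100 * l) = {r : Fin chevE8.nroots | l ≤ lev r} := by
  ext r
  show 100 * l ≤ hgt chevE8 auxE8 lamP r ↔ l ≤ lev r
  obtain ⟨-, h1, h2, h3, -⟩ := basic (lt240 r)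
  rw [hgt_eq]
  constructor
  · intro h; omega
  · intro h; have := h3 (by omega); omega

theorem mem_UL {l : ℤ} (hl : 1 ≤ l) {r : Fin chevE8.nroots} (h : l ≤ lev r) (t : ZMod 2) :
    RR.xe r t ∈ UL l :=
  RR.xe_mem_US (show r ∈ hSet chevE8 auxE8 lamP (100 * l) by rw [set_level hl]; exact h) t

theorem UL_mono {l k : ℤ} (h : l ≤ k) : UL k ≤ UL l := phi_le RR lamP (by omega)

theorem phi_one : Phi RR lamP 1 = RR.UP := by
  have e : hSet chevE8 auxE8 lamP 1 = posSet chevE8 := Set.ext fun r => by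
    show 1 ≤ hgt chevE8 auxE8 lamP r ↔ half chevE8 ≤ (r : ℕ)
    rw [hgt_eq, half_eq]
    exact (basic (lt240 r)).2.2.2.2
  show RR.US (hSet chevE8 auxE8 lamP 1) = RR.US (posSet chevE8)
  rw [e]

theorem UL_seven : UL 7 = ⊥ :=
  le_bot_iff.1 (RR.US_le fun r hr t => by
    rw [set_level (show (1 : ℤ) ≤ 7 by norm_num)] at hr
    have hr' : 7 ≤ lev r := hr
    have := (basic (lt240 r)).1
    omega)

theorem UL_le_UP {l : ℤ} (hl : 1 ≤ l) : UL l ≤ RR.UP := phi_one ▸ phi_le RR lamP (by omega)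

theorem UP_le_PP : RR.UP ≤ PP := RR.UP_le_BS.trans le_sup_left

theorem UL_le_PP {l : ℤ} (hl : 1 ≤ l) : UL l ≤ PP := (UL_le_UP hl).trans UP_le_PP

theorem lev_pos_of_xe {l : ℤ} (hl : 1 ≤ l) {r : Fin chevE8.nroots} (h : RR.xe r 1 ∈ UL l) : l ≤ lev r := by
  by_cases hp : half chevE8 ≤ (r : ℕ)
  · have h1 := le_of_xe_mem RR lamP (r := r) (by rw [hgt_eq]; exact (basic (lt240 r)).2.2.2.2.2 hp) h
    rw [hgt_eq] at h1
    have := (basic (lt240 r)).2.2.1
    omega
  · exact absurd rfl (RR.xe_not_BS hp one_ne_zero (RR.UP_le_BS (UL_le_UP hl h)))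

theorem HS_bot : RR.HS = ⊥ := by
  refine (Subgroup.eq_bot_iff_forall _).2 fun h hh => ?_
  obtain ⟨c, hc⟩ := RR.torusHom_surjective ⟨h, hh⟩
  have hc1 : c = 1 := funext fun i => Units.ext (by
    show (c i : ZMod 2) = 1
    exact (zmod_two_cases _).resolve_left (c i).ne_zero)
  rw [hc1, map_one] at hc
  exact (congrArg Subtype.val hc).symm

theorem lev_comm {r s : Fin chevE8.nroots} {c : ℕ × ℤ × ℕ × ℕ} (hc : c ∈ chevE8.commTerms r s) :
    lev c.1 = (c.2.2.1 : ℤ) * lev r + (c.2.2.2 : ℤ) * lev s :=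
  (RR.cert.commTerms_props r.2 s.2 c hc).2.2.2.2 3 (by decide)

theorem three_lt : (3 : ℕ) < chevE8.rank := by rw [rank_eq]; norm_num

theorem lev_negF (r : Fin chevE8.nroots) : lev (RR.negF r : ℕ) = - lev r := coef_negF RR r three_lt

theorem PP_le_normalizer {l : ℤ} (hl : 1 ≤ l) : PP ≤ Subgroup.normalizer (UL l : Set GG) := by
  show RR.PJ JJ ≤ _
  rw [RR.PJ_eq JJ desc]
  refine sup_le (RR.HS_le_normalizer_US _) (RR.US_le fun s hs u => ?_)
  have hs0 : 0 ≤ lev s := by
    rcases hs with hs | hs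
    · exact RR.cert.coef_nonneg s.2 (show (3 : ℕ) < chevE8.rank by decide) hs
    · exact (hs 3 (show (3 : ℕ) < chevE8.rank by decide) (fun h => h rfl)).ge
  show RR.xe s u ∈ Subgroup.normalizer (RR.US (hSet chevE8 auxE8 lamP (100 * l)) : Set GG)
  rw [set_level hl]
  refine RR.xe_mem_normalizer (fun r (hr : l ≤ lev r) t v => ?_) u
  by_cases hsr : s = r
  · subst hsr
    rw [← RR.xe_neg, RR.xe_add', RR.xe_add']
    exact RR.xe_mem_US (show l ≤ lev s from hr) _
  · refine RR.xe_conj_mem hsr ?_ hr (fun c hc hlt => ?_) t v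
    · intro e
      rw [e, lev_negF] at hs0
      omega
    · show l ≤ lev c.1
      obtain ⟨_, h1, h2, _, _⟩ := RR.cert.commTerms_props r.2 s.2 c hc
      rw [lev_comm hc]
      nlinarith [show (1 : ℤ) ≤ c.2.2.1 by exact_mod_cast h1, show (1 : ℤ) ≤ c.2.2.2 by exact_mod_cast h2]

theorem conj_UL {l : ℤ} (hl : 1 ≤ l) {p v : GG} (hp : p ∈ PP) (hv : v ∈ UL l) : p * v * p⁻¹ ∈ UL l :=
  (Subgroup.mem_normalizer_iff.1 (PP_le_normalizer hl hp) v).1 hv

theorem simple_mem_PP {j : ℕ} (hj : j < 8) (hne : j ≠ 3) :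
    RR.ne (chevE8.simple j) 1 ∈ PP :=
  Subgroup.mem_sup_right (Subgroup.subset_closure ⟨⟨j, hj⟩, hne, rfl⟩)

theorem isMon_ne {j : ℕ} (hj : j < 8) :
    ∃ a, RR.IsMon (RR.ne (chevE8.simple j) 1) (RR.wperm ⟨j, hj⟩) a := by
  obtain ⟨a, ha⟩ := RR.isMon_nsPerm (RR.nS ⟨j, hj⟩)
  rw [RR.nsPerm_nS] at ha
  exact ⟨a, ha⟩

theorem conj_xe {g : GG} {σ : Equiv.Perm (Fin chevE8.nroots)} {a : Fin chevE8.nroots → ZMod 2}
    (hg : RR.IsMon g σ a) (r : Fin chevE8.nroots) : g * RR.xe r 1 * g⁻¹ = RR.xe (σ r) 1 := by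
  rw [(hg r).2.2.2 1, mul_one, (zmod_two_cases (a r)).resolve_left (hg r).1]

theorem gg_mon : ∃ a, RR.IsMon gg (RR.wperm br) a := isMon_ne (j := 3) (by norm_num)

theorem gg_inv_mon : ∃ a, RR.IsMon gg⁻¹ (RR.wperm br) a := by
  obtain ⟨a, ha⟩ := gg_mon
  have h := RR.isMon_inv ha
  rw [show (RR.wperm br)⁻¹ = RR.wperm br from mul_eq_one_iff_inv_eq.1 (RR.wperm_mul_self br)] at h
  exact ⟨_, h⟩

/-- The branch reflection lowers levels by at most one. -/
theorem conj_gg_UL {l : ℤ} (hl : 1 ≤ l) {v : GG} (hv : v ∈ UL (l + 1)) :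
    gg * v * gg⁻¹ ∈ UL l ∧ gg⁻¹ * v * gg ∈ UL l := by
  have hmap : ∀ r ∈ hSet chevE8 auxE8 lamP (100 * (l + 1)), RR.wperm br r ∈ hSet chevE8 auxE8 lamP (100 * l) := by
    intro r hr
    rw [set_level (by omega)] at hr
    rw [set_level hl]
    have hr' : l + 1 ≤ lev r := hr
    show l ≤ lev (auxE8.w 3 r)
    have := refl_lev (lt240 r) (by omega)
    omega
  obtain ⟨a, ha⟩ := gg_mon
  obtain ⟨b, hb⟩ := gg_inv_mon
  refine ⟨Rel.IsMon.conj_mem_US RR ha hmap hv, ?_⟩
  have := Rel.IsMon.conj_mem_US RR hb hmap hv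
  rwa [inv_inv] at this

theorem simple_neg_not_mem : RR.xe (RR.negF (RR.sroot br)) 1 ∉ PP := by
  intro h
  have hlev : lev (RR.sroot br : ℕ) = 1 := by
    show auxE8.coef 3 (chevE8.simple 3) = 1
    rw [RR.cert.coef_simple (by decide) (by decide), if_pos rfl]
  have hα : RR.xe (RR.sroot br) 1 ∈ PP := UL_le_PP le_rfl (mem_UL le_rfl hlev.ge 1)
  have hg : gg ∈ PP := by
    rw [show gg = _ from ne_simple_eq RR br]
    exact mul_mem (mul_mem hα h) hα
  obtain ⟨a, ha⟩ := gg_mon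
  have h1 := conj_UL le_rfl hg (mem_UL le_rfl hlev.ge 1)
  rw [conj_xe ha, RR.wperm_sroot] at h1
  have := lev_pos_of_xe le_rfl h1
  rw [lev_negF, hlev] at this
  omega

theorem gg_not_mem : gg ∉ PP := by
  intro h
  refine simple_neg_not_mem ?_
  have hlev : lev (RR.sroot br : ℕ) = 1 := by
    show auxE8.coef 3 (chevE8.simple 3) = 1
    rw [RR.cert.coef_simple (by decide) (by decide), if_pos rfl]
  obtain ⟨a, ha⟩ := gg_mon
  have h1 := mul_mem (mul_mem h (UL_le_PP le_rfl (mem_UL le_rfl hlev.ge 1))) (inv_mem h)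
  rwa [conj_xe ha, RR.wperm_sroot] at h1

/-- The parabolic subgroup is maximal. -/
theorem PP_coatom : IsCoatom PP := by
  refine ⟨fun h => gg_not_mem (h ▸ Subgroup.mem_top _), fun M hM => ?_⟩
  have hB : RR.bnPair.B ≤ M := (show RR.BS ≤ PP from le_sup_left).trans hM.le
  have hM' := CfsgLib.Lie.BN.overgroup_eq_parabolic RR.bnPair hB
  by_cases hg : gg ∈ M
  · rw [eq_top_iff, ← RR.bnPair.sup_eq_top]
    refine sup_le hB ?_
    rw [← RR.bnPair.closure_sup]
    refine sup_le ((Subgroup.closure_le _).2 ?_) (inf_le_left.trans hB)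
    rintro _ ⟨i, rfl⟩
    by_cases hi : (i : ℕ) = 3
    · rw [show i = br from Fin.ext hi]; exact hg
    · exact hM.le (simple_mem_PP i.2 hi)
  · refine absurd ?_ hM.ne
    refine le_antisymm hM.le ?_
    rw [hM']
    refine sup_le le_sup_left ((Subgroup.closure_le _).2 ?_)
    rintro _ ⟨⟨i, rfl⟩, hsM⟩
    by_cases hi : (i : ℕ) = 3
    · rw [show i = br from Fin.ext hi] at hsM; exact absurd hsM hg
    · exact simple_mem_PP i.2 hi

theorem comm_mem_normal {N : Subgroup GG} (hN : ∀ p ∈ PP, ∀ x ∈ N, p * x * p⁻¹ ∈ N) {v x : GG} (hv : v ∈ N)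
    (hx : x ∈ PP) : v * x * v⁻¹ * x⁻¹ ∈ N := by
  have := mul_mem hv (hN x hx _ (inv_mem hv))
  rwa [← mul_assoc, ← mul_assoc] at this

/-- A normal subgroup reaching a level reaches the highest root of that level. -/
theorem push {N : Subgroup GG} (hN : ∀ p ∈ PP, ∀ x ∈ N, p * x * p⁻¹ ∈ N) {l : ℤ} (h1 : 1 ≤ l) (h6 : l ≤ 6)
    (hNU : N ≤ UL l) (hne : ¬ N ≤ UL (l + 1)) : RR.xe (top l) 1 ∈ N ⊔ UL (l + 1) := by
  obtain ⟨htl, ht, -, -⟩ := tops h1 h6
  set T : Fin chevE8.nroots := ⟨top l, ht⟩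
  have hlev : ∀ r : Fin chevE8.nroots, 100 * l ≤ phi r → phi r ≤ phi (top l) → lev r = l := by
    intro r hr1 hr2
    obtain ⟨-, b1, b2, b3, -⟩ := basic (lt240 r)
    obtain ⟨-, c1, c2, -, -⟩ := basic ht
    rw [htl] at c1 c2
    omega
  have htopmax : hSet chevE8 auxE8 lamP (phi (top l) + 1) ⊆ hSet chevE8 auxE8 lamP (100 * (l + 1)) := by
    intro r hr
    have hr' : phi (top l) + 1 ≤ phi r := hgt_eq r ▸ hr
    rw [set_level (by omega)]
    show l + 1 ≤ lev r
    obtain ⟨-, b1, b2, b3, -⟩ := basic (lt240 r)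
    obtain ⟨-, c1, c2, c3, -⟩ := basic ht
    rw [htl] at c1 c2 c3
    by_contra hc
    have := c3 h1
    have hl : lev r = l := by omega
    have := (raise (lt240 r) (by omega)).1
    rw [hl] at this
    omega
  suffices H : ∀ (k : ℕ) (m : ℤ), m + k = phi (top l) + 1 → 100 * l ≤ m → ∀ v ∈ N, v ∈ Phi RR lamP m →
      v ∉ UL (l + 1) → RR.xe (top l) 1 ∈ N ⊔ UL (l + 1) by
    obtain ⟨v, hv, hv'⟩ := SetLike.not_le_iff_exists.1 hne
    obtain ⟨-, c1, -, c3, -⟩ := basic ht
    rw [htl] at c1 c3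
    have := c3 h1
    exact H (phi (top l) + 1 - 100 * l).toNat (100 * l) (by omega) le_rfl v hv (hNU hv) hv'
  intro k
  induction k with
  | zero =>
    intro m hm _ v _ hvm hv'
    rw [show m = phi (top l) + 1 by omega] at hvm
    exact absurd (RR.US_mono htopmax hvm) hv'
  | succ k ih =>
    intro m hm hlm v hv hvm hv'
    by_cases hz : v ∈ Phi RR lamP (m + 1)
    · exact ih (m + 1) (by omega) (by omega) v hv hz hv'
    obtain ⟨r, hr, hchi⟩ : ∃ r : Fin chevE8.nroots, hgt chevE8 auxE8 lamP r = m ∧ chi RR r v = 1 := by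
      by_contra! hc
      exact hz (mem_succ_of_chi RR lamP (by omega) hvm fun r hr => (zmod_two_cases _).resolve_right (hc r hr))
    have hr' : phi r = m := (hgt_eq r).symm.trans hr
    have hrl : lev r = l := hlev r (by omega) (by omega)
    rcases (raise (lt240 r) (by omega)).2 with hrt | ⟨hlt, ⟨j, hj, hj3, d, c, hcomm, hodd, hd⟩, -⟩
    · rw [hrl] at hrt
      have hrT : r = T := Fin.ext hrt
      have hmT : m = phi (top l) := by rw [← hr', hrt]
      have hzero : v * RR.xe T 1 ∈ Phi RR lamP (m + 1) := by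
        have hT : RR.xe T 1 ∈ Phi RR lamP m := xe_mem_phi RR lamP (by rw [← hrT, hr]) 1
        refine mem_succ_of_chi RR lamP (by omega) (mul_mem hvm hT) fun s hs => ?_
        have hs' : phi s = m := (hgt_eq s).symm.trans hs
        have hsl : lev s = l := hlev s (by omega) (by omega)
        have hsT : s = T := by
          rcases (raise (lt240 s) (by omega)).2 with e | ⟨e, -⟩
          · rw [hsl] at e; exact Fin.ext e
          · rw [hsl] at e; omega
        rw [chi_add RR lamP (by omega) (by omega) hvm hT (by omega), hsT, chi_xe, if_pos rfl, ← hrT, hchi]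
        decide
      rw [hmT] at hzero
      have h3 := RR.US_mono htopmax hzero
      have h4 := mul_mem (Subgroup.mem_sup_left (T := UL (l + 1)) (inv_mem hv)) (Subgroup.mem_sup_right (S := N) h3)
      rwa [inv_mul_cancel_left] at h4
    · rw [hrl] at hlt hd
      set s : Fin chevE8.nroots := RR.sroot ⟨j, hj⟩
      have hs1 : hgt chevE8 auxE8 lamP s = 1 := by
        show (∑ k : Fin chevE8.rank, lamP k * auxE8.coef k (chevE8.simple j)) = 1
        rw [Finset.sum_eq_single (⟨j, hj⟩ : Fin chevE8.rank)]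
        · rw [RR.cert.coef_simple hj hj, if_pos rfl]
          simp [lamP, hj3]
        · intro k _ hk
          rw [RR.cert.coef_simple hj k.2, if_neg (fun e => hk (Fin.ext e)), mul_zero]
        · simp
      have hdlt : d < 240 := (RR.cert.commTerms_props r.2 s.2 (d, c, 1, 1) (by
        show (d, c, 1, 1) ∈ chevE8.commTerms r (chevE8.simple j)
        rw [hcomm]; simp)).1
      have hrs : r ≠ s := fun e => by
        have h0 : lev (s : ℕ) = 0 := by
          show auxE8.coef 3 (chevE8.simple j) = 0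
          rw [RR.cert.coef_simple hj (by decide), if_neg (Ne.symm hj3)]
        rw [e, h0] at hrl
        omega
      obtain ⟨hw, hwd⟩ := comm_chi RR lamP (m := m) (h := 1) (by omega) le_rfl (r := r) (s := s)
        (d := ⟨d, hdlt⟩) hr hs1 hcomm hodd hrs inj_roots hvm
      have hxP : RR.xe s 1 ∈ PP := UP_le_PP (RR.xe_mem_US (show s ∈ posSet chevE8 from RR.sroot_pos _) 1)
      refine ih (m + 1) (by omega) (by omega) _ (comm_mem_normal hN hv hxP) hw fun hc => ?_
      have hdh : hgt chevE8 auxE8 lamP (⟨d, hdlt⟩ : Fin chevE8.nroots) = m + 1 := by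
        rw [RR.toRaw.hgt_comm lamP (r := r) (s := s) (c := (d, c, 1, 1)) (by
          show (d, c, 1, 1) ∈ chevE8.commTerms r (chevE8.simple j)
          rw [hcomm]; simp), hr, hs1]
        simp
      have hdphi : phi d ≤ phi (top l) := by
        have := (raise hdlt (by omega)).1
        rwa [hd] at this
      have h2 := chi_eq_zero RR lamP (m := m + 1) (by omega) (phi_le RR lamP (by
        obtain ⟨-, -, c2, -, -⟩ := basic ht
        rw [htl] at c2
        rw [hgt_eq] at hdh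
        simp only at hdh
        omega) hc) (r := ⟨d, hdlt⟩) hdh
      rw [hwd, hchi] at h2
      exact one_ne_zero h2

/-- A normal subgroup not deeper than its level covers the level. -/
theorem cover {N : Subgroup GG} (hN : ∀ p ∈ PP, ∀ x ∈ N, p * x * p⁻¹ ∈ N) {l : ℤ} (h1 : 1 ≤ l) (h6 : l ≤ 6)
    (hNU : N ≤ UL l) (hne : ¬ N ≤ UL (l + 1)) : UL l ≤ N ⊔ UL (l + 1) := by
  have hsup : ∀ p ∈ PP, ∀ x ∈ N ⊔ UL (l + 1), p * x * p⁻¹ ∈ N ⊔ UL (l + 1) := by
    intro p hp x hx
    rw [Subgroup.sup_eq_closure] at hx ⊢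
    induction hx using Subgroup.closure_induction with
    | mem y hy =>
      refine Subgroup.subset_closure ?_
      rcases hy with hy | hy
      · exact Or.inl (hN p hp y hy)
      · exact Or.inr (conj_UL (by omega) hp hy)
    | one => simp
    | mul a b _ _ ha hb => have := mul_mem ha hb; simpa [mul_assoc] using this
    | inv a _ ha => have := inv_mem ha; simpa [mul_assoc] using this
  have key : ∀ (k : ℕ) (r : Fin chevE8.nroots), 240 - (r : ℕ) = k → lev r = l → RR.xe r 1 ∈ N ⊔ UL (l + 1) := by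
    intro k
    induction k using Nat.strong_induction_on with
    | h k ih =>
      intro r hk hr
      rcases (raise (lt240 r) (by omega)).2 with e | ⟨-, -, j, hj, hj3, hw, hlt⟩
      · rw [hr] at e
        rw [e]
        exact push hN h1 h6 hNU hne
      · set r' : Fin chevE8.nroots := RR.wperm ⟨j, hj⟩ r
        have hr'v : (r' : ℕ) = auxE8.w j r := rfl
        have hmem := ih (240 - (r' : ℕ)) (by have := lt240 r'; omega) r' rfl (by rw [hr'v, hw, hr])
        obtain ⟨a, ha⟩ := isMon_ne hj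
        have h2 := hsup _ (simple_mem_PP hj hj3) _ hmem
        rw [conj_xe ha r'] at h2
        rwa [show RR.wperm ⟨j, hj⟩ r' = r from by
          show (RR.wperm ⟨j, hj⟩ * RR.wperm ⟨j, hj⟩) r = r
          rw [RR.wperm_mul_self]; rfl] at h2
  refine RR.US_le fun r hr t => ?_
  rw [set_level h1] at hr
  have hr' : l ≤ lev r := hr
  rcases zmod_two_cases t with rfl | rfl
  · rw [RR.xe_zero]; exact one_mem _
  rcases hr'.lt_or_eq with h | h
  · exact Subgroup.mem_sup_right (mem_UL (by omega) (by omega) 1)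
  · exact key _ r rfl h.symm

/-- The stepping lemma. -/
theorem descend {N : Subgroup GG} (hN : ∀ p ∈ PP, ∀ x ∈ N, p * x * p⁻¹ ∈ N) {l : ℤ} (h1 : 1 ≤ l) (h6 : l ≤ 6)
    (hNU : N ≤ UL l) {Q : Subgroup GG} (hQ : UL l ≤ Q) (hNQ : ∀ v ∈ N, gg⁻¹ * v * gg ∈ Q)
    (hbad : RR.xe (auxE8.w 3 (drop l)) 1 ∉ Q) : N ≤ UL (l + 1) := by
  by_contra hne
  obtain ⟨-, -, hdl, hd⟩ := tops h1 h6
  have hx := cover hN h1 h6 hNU hne (mem_UL h1 (r := ⟨drop l, hd⟩) hdl.ge 1)
  have hsup : N ⊔ UL (l + 1) ≤ Q.comap (MulAut.conj gg⁻¹).toMonoidHom := by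
    refine sup_le (fun v hv => ?_) fun v hv => ?_
    · rw [Subgroup.mem_comap, MulEquiv.coe_toMonoidHom, MulAut.conj_apply, inv_inv]
      exact hNQ v hv
    · rw [Subgroup.mem_comap, MulEquiv.coe_toMonoidHom, MulAut.conj_apply, inv_inv]
      exact hQ (conj_gg_UL h1 hv).2
  obtain ⟨a, ha⟩ := gg_inv_mon
  have h2 := Subgroup.mem_comap.1 (hsup hx)
  rw [MulEquiv.coe_toMonoidHom, MulAut.conj_apply, conj_xe ha ⟨drop l, hd⟩, RR.wperm_apply] at h2
  rw [show ((br : Fin chevE8.rank) : ℕ) = 3 from rfl] at h2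
  exact hbad h2

/-- A monomial element of the parabolic fixing level one is trivial. -/
theorem perm_eq_one {σ : Equiv.Perm (Fin chevE8.nroots)} (hσ : RR.IsLin σ)
    (hfix : ∀ r : Fin chevE8.nroots, lev r = 1 → σ r = r) : σ = 1 := by
  have hsimple : ∀ i : Fin chevE8.rank, σ (RR.sroot i) = RR.sroot i := by
    intro i
    by_cases hi : (i : ℕ) = 3
    · refine hfix _ ?_
      show auxE8.coef 3 (chevE8.simple i) = 1
      rw [hi, RR.cert.coef_simple (by decide) (by decide), if_pos rfl]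
    · obtain ⟨b, hb, hb1, hb2, hcoef⟩ := span i.2 hi
      set rb : Fin chevE8.nroots := ⟨b, hb⟩
      set rb' : Fin chevE8.nroots := RR.wperm i rb
      refine inj_roots _ _ fun j hj => ?_
      have e1 := hσ rb' ⟨j, hj⟩
      have e2 := hσ rb ⟨j, hj⟩
      rw [hfix rb' hb2] at e1
      rw [hfix rb hb1] at e2
      have hb' : ∀ k : Fin chevE8.rank, auxE8.coef k (rb' : ℕ) = auxE8.coef k (rb : ℕ) + if (k : ℕ) = i then 1 else 0 :=
        fun k => hcoef k k.2
      simp only [hb', add_mul, Finset.sum_add_distrib, Fin.val_mk] at e1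
      rw [← e2, Finset.sum_eq_single i (fun k _ hk => by rw [if_neg (fun e => hk (Fin.ext e)), zero_mul])
        (by simp), if_pos rfl, one_mul] at e1
      have h3 : auxE8.coef j (σ (RR.sroot i) : ℕ) = if j = (i : ℕ) then 1 else 0 := by
        have h4 := hb' ⟨j, hj⟩
        simp only at h4 e1
        omega
      rw [h3, RR.coef_sroot i ⟨j, hj⟩]
      simp [Fin.ext_iff]
  refine Equiv.ext fun r => inj_roots _ _ fun j hj => ?_
  rw [hσ r ⟨j, hj⟩]
  have hs : ∀ k : Fin chevE8.rank, auxE8.coef j (σ (RR.sroot k) : ℕ) = if (⟨j, hj⟩ : Fin chevE8.rank) = k then 1 else 0 :=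
    fun k => by rw [hsimple k]; exact RR.coef_sroot k ⟨j, hj⟩
  show (∑ k : Fin chevE8.rank, auxE8.coef k (r : ℕ) * auxE8.coef j (σ (RR.sroot k) : ℕ)) = auxE8.coef j (r : ℕ)
  rw [Finset.sum_eq_single (⟨j, hj⟩ : Fin chevE8.rank)
    (fun k _ hk => by rw [hs k, if_neg (Ne.symm hk), mul_zero]) (by simp), hs, if_pos rfl, mul_one]

/-- Elements of the parabolic centralising the first level lie in the unipotent radical. -/
theorem centralizer_level_one {v : GG} (hv : v ∈ PP)
    (hcent : ∀ b : Fin chevE8.nroots, lev b = 1 → v * RR.xe b 1 * v⁻¹ * (RR.xe b 1)⁻¹ ∈ UL 2) : v ∈ UL 1 := by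
  classical
  obtain ⟨b, hb, n, u, hu, rfl⟩ := RR.exists_bnu v
  have hbP : b ∈ PP := Subgroup.mem_sup_left hb
  have huUP : u ∈ RR.UP := RR.US_mono (Rel.invSet_subset _) hu
  have huP : u ∈ PP := UP_le_PP huUP
  have hnP : (n : GG) ∈ PP := by
    have := mul_mem (mul_mem (inv_mem hbP) hv) (inv_mem huP)
    rwa [← mul_assoc, ← mul_assoc, inv_mul_cancel, one_mul, mul_inv_cancel_right] at this
  obtain ⟨a, ha⟩ := RR.isMon_nsPerm n
  have hkeep : ∀ (l : ℤ), 1 ≤ l → ∀ r : Fin chevE8.nroots, l ≤ lev r → l ≤ lev (RR.nsPerm n r : ℕ) := by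
    intro l hl r hr
    have h1 := conj_UL hl hnP (mem_UL hl hr 1)
    rw [conj_xe ha] at h1
    exact lev_pos_of_xe hl h1
  have hlevel : ∀ r : Fin chevE8.nroots, lev r = 1 → lev (RR.nsPerm n r : ℕ) = 1 := by
    intro r hr
    by_contra hne
    have h1 := hkeep 1 le_rfl r hr.ge
    have h2 : 2 ≤ lev (RR.nsPerm n r : ℕ) := by omega
    have h3 := conj_UL (l := 2) (by norm_num) (inv_mem hnP) (mem_UL (by norm_num) h2 1)
    rw [conj_xe (RR.isMon_inv ha), Equiv.Perm.inv_def, Equiv.symm_apply_apply] at h3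
    have := lev_pos_of_xe (by norm_num) h3
    omega
  -- the filtration of the first level
  let T : ℕ → Set (Fin chevE8.nroots) := fun j => {r | 2 ≤ lev r ∨ (lev r = 1 ∧ j ≤ (r : ℕ))}
  have hTnorm : ∀ j, RR.BS ≤ Subgroup.normalizer (RR.US (T j) : Set GG) := by
    intro j
    refine sup_le (RR.US_le fun s hs w => ?_) (RR.HS_le_normalizer_US _)
    have hs' : half chevE8 ≤ (s : ℕ) := hs
    refine RR.xe_mem_normalizer (fun r hr t z => ?_) w
    have hr1 : 1 ≤ lev r := by rcases hr with h | ⟨h, -⟩ <;> omega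
    have hrpos : half chevE8 ≤ (r : ℕ) := by
      obtain ⟨-, b1, -, b3, b5⟩ := basic (lt240 r)
      exact b5.1 (by have := b3 hr1; omega)
    by_cases hsr : s = r
    · subst hsr
      rw [← RR.xe_neg, RR.xe_add', RR.xe_add']
      exact RR.xe_mem_US hr _
    · refine RR.xe_conj_mem hsr ?_ hr (fun c hc hlt => ?_) t z
      · intro e
        exact (RR.negF_pos_iff r).1 (e ▸ hs') hrpos
      · obtain ⟨_, h1, h2, h4, _⟩ := RR.cert.commTerms_props r.2 s.2 c hc
        have hidx := (h4 hrpos hs').1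
        have hl := lev_comm hc
        have hs0 : 0 ≤ lev s := RR.cert.coef_nonneg s.2 (show (3 : ℕ) < chevE8.rank by decide) hs'
        have h1' : (1 : ℤ) ≤ c.2.2.1 := by exact_mod_cast h1
        have h2' : (0 : ℤ) ≤ c.2.2.2 := Int.natCast_nonneg _
        show 2 ≤ lev c.1 ∨ (lev c.1 = 1 ∧ j ≤ c.1)
        rcases hr with h | ⟨h, hj⟩
        · exact Or.inl (by nlinarith)
        · by_cases h5 : 2 ≤ lev c.1
          · exact Or.inl h5
          · exact Or.inr ⟨by nlinarith, by omega⟩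
  have hTmem : ∀ j, ∀ x ∈ RR.BS, ∀ z ∈ RR.US (T j), x * z * x⁻¹ ∈ RR.US (T j) := fun j x hx z hz =>
    (Subgroup.mem_normalizer_iff.1 (hTnorm j hx) z).1 hz
  -- unipotent elements move a root only upwards
  have hup : ∀ r : Fin chevE8.nroots, lev r = 1 → ∀ w ∈ RR.UP,
      w * RR.xe r 1 * w⁻¹ * (RR.xe r 1)⁻¹ ∈ RR.US (T ((r : ℕ) + 1)) := by
    intro r hr w hw
    refine closure_induction_symm RR.gens_symm ?cbase ?cstep hw
    case cbase => simp
    case cstep =>
      intro x hx y ih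
      obtain ⟨s, hs, t, rfl⟩ := hx
      have hs' : half chevE8 ≤ (s : ℕ) := hs
      have hxB : RR.xe s t ∈ RR.BS := RR.xe_pos_mem_BS hs' t
      have e : RR.xe s t * y * RR.xe r 1 * (RR.xe s t * y)⁻¹ * (RR.xe r 1)⁻¹ =
          RR.xe s t * (y * RR.xe r 1 * y⁻¹ * (RR.xe r 1)⁻¹) * (RR.xe s t)⁻¹ *
            (RR.xe s t * RR.xe r 1 * (RR.xe s t)⁻¹ * (RR.xe r 1)⁻¹) := by group
      rw [e]
      refine mul_mem (hTmem _ _ hxB _ ih) ?_
      by_cases hsr : s = r
      · subst hsr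
        rw [show RR.xe s t * RR.xe s 1 = RR.xe s 1 * RR.xe s t by rw [RR.xe_add', RR.xe_add', add_comm],
          mul_inv_cancel_right, mul_inv_cancel]
        exact one_mem _
      have hrpos : half chevE8 ≤ (r : ℕ) := by
        obtain ⟨-, b1, -, b3, b5⟩ := basic (lt240 r)
        exact b5.1 (by have := b3 hr.ge; omega)
      have hneg : s ≠ RR.negF r := fun e => (RR.negF_pos_iff r).1 (e ▸ hs') hrpos
      have h := RR.xe_comm r s 1 t r.2 s.2 (fun e => hsr (Fin.ext e)) (fun e => hneg (Fin.ext e))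
      have hW : ((chevE8.commWord (ZMod 2) r s 1 t).map fun p => RR.xe p.1 p.2).prod ∈
          RR.US (T ((r : ℕ) + 1)) := by
        refine commWord_mem RR r s 1 t fun c hc hlt => ?_
        obtain ⟨-, h1, h2, h4, _⟩ := RR.cert.commTerms_props r.2 s.2 c hc
        have hl := lev_comm hc
        have hs0 : 0 ≤ lev s := RR.cert.coef_nonneg s.2 (show (3 : ℕ) < chevE8.rank by decide) hs'
        have h1' : (1 : ℤ) ≤ c.2.2.1 := by exact_mod_cast h1
        have h2' : (0 : ℤ) ≤ c.2.2.2 := Int.natCast_nonneg _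
        show 2 ≤ lev c.1 ∨ (lev c.1 = 1 ∧ (r : ℕ) + 1 ≤ c.1)
        by_cases h5 : 2 ≤ lev c.1
        · exact Or.inl h5
        · exact Or.inr ⟨by rw [hr] at hl; nlinarith, (h4 hrpos hs').1⟩
      generalize ((chevE8.commWord (ZMod 2) r s 1 t).map fun p => RR.xe p.1 p.2).prod = W at h hW
      have e2 : RR.xe s t * RR.xe r 1 * (RR.xe s t)⁻¹ * (RR.xe r 1)⁻¹ =
          RR.xe r 1 * (RR.xe s t * W * (RR.xe s t)⁻¹) * (RR.xe r 1)⁻¹ := by rw [h]; group
      rw [e2]
      exact hTmem _ _ (RR.xe_pos_mem_BS hrpos 1) _ (hTmem _ _ hxB _ hW)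
  have hfix : ∀ (k : ℕ) (r : Fin chevE8.nroots), 240 - (r : ℕ) = k → lev r = 1 → RR.nsPerm n r = r := by
    intro k
    induction k using Nat.strong_induction_on with
    | h k ih =>
      intro r hk hr
      set σ := RR.nsPerm n
      have hT : ∀ s ∈ T ((r : ℕ) + 1), σ s ∈ T ((r : ℕ) + 1) := by
        rintro s (hs | ⟨hs, hs'⟩)
        · exact Or.inl (hkeep 2 (by norm_num) s hs)
        · rw [ih (240 - (s : ℕ)) (by have := lt240 s; omega) s rfl hs]
          exact Or.inr ⟨hs, hs'⟩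
      set Q := RR.US (T ((r : ℕ) + 1))
      have h2Q : UL 2 ≤ Q := by
        refine RR.US_le fun s hs t => ?_
        rw [set_level (show (1 : ℤ) ≤ 2 by norm_num)] at hs
        exact RR.xe_mem_US (Or.inl hs) t
      set y := u * RR.xe r 1 * u⁻¹ * (RR.xe r 1)⁻¹
      have hy : (n : GG) * y * (n : GG)⁻¹ ∈ Q := Rel.IsMon.conj_mem_US RR ha hT (hup r hr u huUP)
      set y' := (n : GG) * y * (n : GG)⁻¹
      have hz := hcent r hr
      set z := b * n * u * RR.xe r 1 * (b * n * u)⁻¹ * (RR.xe r 1)⁻¹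
      -- `b (y' x_{σ r}) b⁻¹ = z x_r`
      have he : RR.xe (σ r) 1 = y'⁻¹ * (b⁻¹ * z * b) * (b⁻¹ * RR.xe r 1 * b * (RR.xe r 1)⁻¹) * RR.xe r 1 := by
        rw [← conj_xe ha r]
        simp only [y', y, z]
        group
      have hbU : b⁻¹ * RR.xe r 1 * b * (RR.xe r 1)⁻¹ ∈ Q := by
        obtain ⟨u', hu', h', hh', rfl⟩ := RR.exists_of_mem_BS hb
        rw [HS_bot, Subgroup.mem_bot] at hh'
        subst hh'
        rw [mul_one]
        have := hup r hr u'⁻¹ (inv_mem hu')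
        rwa [inv_inv] at this
      have hq : RR.xe (σ r) 1 * (RR.xe r 1)⁻¹ ∈ Q := by
        rw [he, mul_inv_cancel_right]
        refine mul_mem (mul_mem (inv_mem hy) ?_) hbU
        have h3 := conj_UL (l := 2) (by norm_num) (inv_mem hbP) hz
        rw [inv_inv] at h3
        exact h2Q h3
      by_contra hne
      -- the coefficient at `r`
      let lam1 : Fin chevE8.rank → ℤ := fun k => if (k : ℕ) = 3 then 1 else 0
      have hl1 : ∀ s : Fin chevE8.nroots, hgt chevE8 auxE8 lam1 s = lev s := fun s => by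
        show (∑ k : Fin chevE8.rank, (if (k : ℕ) = 3 then (1 : ℤ) else 0) * auxE8.coef k s) = _
        rw [Finset.sum_eq_single br (fun k _ hk => by
          rw [if_neg (fun e : (k : ℕ) = 3 => hk (Fin.ext e)), zero_mul]) (by simp)]
        simp [br, lev]
      have hsub : T ((r : ℕ) + 1) ⊆ hSet chevE8 auxE8 lam1 1 := by
        rintro s (hs | ⟨hs, -⟩) <;> show 1 ≤ hgt chevE8 auxE8 lam1 s <;> rw [hl1] <;> omega
      have hq1 := RR.US_mono hsub hq
      have hq0 : chi RR r (RR.xe (σ r) 1 * (RR.xe r 1)⁻¹) = 0 :=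
        (RR.toRaw.isGr_mem lam1 le_rfl hsub hq).2 r (fun h => by
          rcases h with h | ⟨-, h⟩ <;> omega) (by rw [hl1, hr]) _
      have hσr : RR.xe (σ r) 1 ∈ Phi RR lam1 1 := xe_mem_phi RR lam1 (by rw [hl1, hlevel r hr]) 1
      have hrr : RR.xe r 1 ∈ Phi RR lam1 1 := xe_mem_phi RR lam1 (by rw [hl1, hr]) 1
      rw [← RR.xe_neg, CharTwo.neg_eq, chi_add RR lam1 le_rfl le_rfl hσr hrr (by rw [hl1, hr]; norm_num),
        chi_xe, chi_xe, if_pos rfl, if_neg (Ne.symm hne)] at hq0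
      simp at hq0
  have hn1 : (n : GG) = 1 := by
    have h1 := RR.mem_HS_of_nsPerm (g := n) (perm_eq_one (RR.isLin_nsPerm n) fun r hr => hfix _ r rfl hr)
    rwa [HS_bot, Subgroup.mem_bot] at h1
  have hbUP : b ∈ RR.UP := by
    obtain ⟨u', hu', h', hh', rfl⟩ := RR.exists_of_mem_BS hb
    rw [HS_bot, Subgroup.mem_bot] at hh'
    rwa [hh', mul_one]
  rw [hn1, mul_one] at hcent ⊢
  have hvP : b * u ∈ Phi RR lamP 1 := by rw [phi_one]; exact mul_mem hbUP huUP
  -- climb to the radical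
  suffices H : ∀ k : ℕ, k < 100 → b * u ∈ Phi RR lamP (1 + k) from H 99 (by norm_num)
  intro k
  induction k with
  | zero => intro _; simpa using hvP
  | succ k ih =>
    intro hk
    rw [show (1 : ℤ) + ((k + 1 : ℕ) : ℤ) = 1 + k + 1 by push_cast; ring]
    refine mem_succ_of_chi RR lamP (by omega) (ih (by omega)) fun r hr => ?_
    have hr' : phi r = 1 + k := (hgt_eq r).symm.trans hr
    obtain ⟨-, b1, b2, b3, b5⟩ := basic (lt240 r)
    have hr0 : lev r = 0 := by omega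
    obtain ⟨s, hs, hs1, d, c, hcomm, hodd, hd1⟩ := faithful (lt240 r) hr0 (b5.1 (by omega))
    have hdlt : d < 240 := (RR.cert.commTerms_props r.2 (show s < chevE8.nroots from hs) (d, c, 1, 1) (by
      rw [hcomm]; simp)).1
    set S : Fin chevE8.nroots := ⟨s, hs⟩
    obtain ⟨-, c1, c2, c3, -⟩ := basic hs
    have hh : 1 ≤ phi s := by have := c3 hs1.ge; omega
    obtain ⟨-, hwd⟩ := comm_chi RR lamP (m := 1 + (k : ℤ)) (h := phi s) (by omega) hh (r := r) (s := S)
      (d := ⟨d, hdlt⟩) hr (hgt_eq _) hcomm hodd (fun e => by rw [e] at hr0; rw [hr0] at hs1; omega)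
      inj_roots (ih (by omega))
    rw [← hwd]
    have hdh : hgt chevE8 auxE8 lamP (⟨d, hdlt⟩ : Fin chevE8.nroots) = phi d := hgt_eq d
    obtain ⟨-, d1, d2, d3, -⟩ := basic hdlt
    refine chi_eq_zero RR lamP (m := phi d) (by have := d3 hd1.ge; omega) ?_ hdh
    exact phi_le RR lamP (by omega) (hcent S hs1)

end CfsgLib.Geo.E8Core
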