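/-
Iterated cores of a maximal parabolic subgroup of E8(2) and its conjugate by a fundamental reflection.
-/
import Cfsg.Agent.Lib.Geo.E8Core.Parabolic
import Cfsg.Agent.Lib.Lie.Rel.Checks

set_option autoImplicit false

namespace CfsgLib.Geo.E8Core

open Cfsg.Lie CfsgLib.Lie.Chev

attribute [local irreducible] Cfsg.Lie.ChevalleyDatum.neg

/-- The core in `M` of `Y ⊓ M`. -/
def coreIn {G : Type*} [Group G] (M Y : Subgroup G) : Subgroup G :=
  (Y.subgroupOf M).normalCore.map M.subtype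

section Core

variable {G : Type*} [Group G] {M Y : Subgroup G}

theorem coreIn_le_right {x : G} (hx : x ∈ coreIn M Y) : x ∈ Y := by
  obtain ⟨z, hz, rfl⟩ := hx
  exact Subgroup.mem_subgroupOf.1 (Subgroup.normalCore_le _ hz)

theorem coreIn_le_left : coreIn M Y ≤ M := Subgroup.map_subtype_le _

theorem coreIn_conj {p x : G} (hp : p ∈ M) (hx : x ∈ coreIn M Y) : p * x * p⁻¹ ∈ coreIn M Y := by
  obtain ⟨z, hz, rfl⟩ := hx
  exact ⟨⟨p, hp⟩ * z * ⟨p, hp⟩⁻¹, (inferInstance : (Y.subgroupOf M).normalCore.Normal).conj_mem z hz _, rfl⟩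

theorem le_coreIn {N : Subgroup G} (hM : N ≤ M) (hY : N ≤ Y) (hn : ∀ p ∈ M, ∀ x ∈ N, p * x * p⁻¹ ∈ N) :
    N ≤ coreIn M Y := by
  intro x hx
  haveI : (N.subgroupOf M).Normal := ⟨fun z hz p => hn p p.2 z hz⟩
  have h : N.subgroupOf M ≤ (Y.subgroupOf M).normalCore := Subgroup.normal_le_normalCore.2 fun z hz => hY hz
  exact ⟨⟨x, hM hx⟩, h hx, rfl⟩

theorem conj_conj_involution {g : G} (h : g⁻¹ = g) (p z : G) :
    g * (g * p * g * z * (g * p * g)⁻¹) * g = p * (g * z * g) * p⁻¹ := by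
  have h' : g * g = 1 := by rw [← mul_inv_cancel g, h]
  rw [mul_inv_rev, mul_inv_rev, h,
    show g * (g * p * g * z * (g * (p⁻¹ * g))) * g = (g * g) * p * (g * z * g) * p⁻¹ * (g * g) by group,
    h', one_mul, mul_one]

end Core

/-- The conjugate parabolic. -/
noncomputable def PP2 : Subgroup GG := PP.map (MulAut.conj gg).toMonoidHom

/-- The two sequences. -/
noncomputable def seqAB : ℕ → Subgroup GG × Subgroup GG
  | 0 => (PP, PP2)
  | i + 1 => (coreIn PP ((seqAB i).1 ⊓ (seqAB i).2), coreIn PP2 ((seqAB i).1 ⊓ (seqAB i).2))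

theorem gg_inv : gg⁻¹ = gg := by
  have h := RR.nS_mul_self_mem br
  rw [HS_bot, Subgroup.mem_bot] at h
  exact (eq_inv_of_mul_eq_one_left h).symm

theorem gg_gg (v : GG) : gg * (gg * v * gg) * gg = v := by
  have h : gg * gg = 1 := by
    have := inv_mul_cancel gg
    rwa [gg_inv] at this
  rw [show gg * (gg * v * gg) * gg = (gg * gg) * v * (gg * gg) by group, h, one_mul, mul_one]

theorem mem_PP2 {v : GG} : v ∈ PP2 ↔ gg * v * gg ∈ PP := by
  rw [PP2, Subgroup.mem_map]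
  constructor
  · rintro ⟨x, hx, rfl⟩
    rw [MulEquiv.coe_toMonoidHom, MulAut.conj_apply, gg_inv, gg_gg]
    exact hx
  · intro h
    refine ⟨_, h, ?_⟩
    rw [MulEquiv.coe_toMonoidHom, MulAut.conj_apply, gg_inv, gg_gg]

theorem conj_UL_gg {l : ℤ} (hl : 1 ≤ l) {v : GG} (hv : v ∈ UL (l + 1)) : gg * v * gg ∈ UL l := by
  have := (conj_gg_UL hl hv).1
  rwa [gg_inv] at this

/-- The lower bound. -/
theorem seq_lower (i : ℕ) :
    UL ((i : ℤ) + 1) ≤ (seqAB i).1 ∧ ∀ v, gg * v * gg ∈ UL ((i : ℤ) + 1) → v ∈ (seqAB i).2 := by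
  induction i with
  | zero => exact ⟨UL_le_PP le_rfl, fun v hv => mem_PP2.2 (UL_le_PP le_rfl hv)⟩
  | succ i ih =>
    rw [show ((i + 1 : ℕ) : ℤ) + 1 = (i : ℤ) + 1 + 1 by push_cast; ring]
    have hi : (1 : ℤ) ≤ (i : ℤ) + 1 := by omega
    constructor
    · refine le_coreIn (UL_le_PP (by omega)) (fun v hv => ⟨ih.1 (UL_mono (by omega) hv), ih.2 v ?_⟩)
        fun p hp x hx => conj_UL (by omega) hp hx
      exact conj_UL_gg hi hv
    · intro v hv
      have hN : (UL ((i : ℤ) + 1 + 1)).map (MulAut.conj gg).toMonoidHom ≤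
          coreIn PP2 ((seqAB i).1 ⊓ (seqAB i).2) := by
        have hz : ∀ z, gg * (gg * z * gg) * gg = z := gg_gg
        refine le_coreIn ?_ ?_ ?_
        · exact Subgroup.map_mono (UL_le_PP (by omega))
        · rintro _ ⟨z, hz', rfl⟩
          rw [MulEquiv.coe_toMonoidHom, MulAut.conj_apply, gg_inv]
          refine ⟨ih.1 (conj_UL_gg hi hz'), ih.2 _ ?_⟩
          rw [hz]
          exact UL_mono (by omega) hz'
        · rintro _ ⟨p, hp, rfl⟩ _ ⟨z, hz', rfl⟩
          exact ⟨p * z * p⁻¹, conj_UL (by omega) hp hz', by simp only [map_mul, map_inv]⟩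
      refine hN ⟨gg * v * gg, hv, ?_⟩
      rw [MulEquiv.coe_toMonoidHom, MulAut.conj_apply, gg_inv, gg_gg]

theorem upper_base {N : Subgroup GG} (hn : ∀ p ∈ PP, ∀ x ∈ N, p * x * p⁻¹ ∈ N) (h1 : N ≤ PP)
    (h2 : ∀ v ∈ N, gg * v * gg ∈ PP) : N ≤ UL 2 := by
  have hbad : RR.xe (auxE8.w 3 (drop 1)) 1 ∉ PP := by
    have e : auxE8.w 3 (drop 1) = (RR.negF (RR.sroot br) : ℕ) := by
      rw [show drop 1 = chevE8.simple 3 by decide +kernel, certE8.w_simple three_lt]
      rfl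
    rw [e]
    exact simple_neg_not_mem
  have hN' : N ⊓ UL 1 ≤ UL 2 :=
    descend (l := 1) (N := N ⊓ UL 1) (fun p hp x hx => ⟨hn p hp x hx.1, conj_UL le_rfl hp hx.2⟩) le_rfl
      (by norm_num) inf_le_right (UL_le_PP le_rfl) (fun v hv => by rw [gg_inv]; exact h2 v hv.1) hbad
  intro v hv
  refine hN' ⟨hv, centralizer_level_one (h1 hv) fun b hb => ?_⟩
  have hx : RR.xe (b : ℕ) 1 ∈ UL 1 := mem_UL le_rfl hb.ge 1
  exact hN' ⟨comm_mem_normal hn hv (UL_le_PP le_rfl hx), mul_mem (conj_UL le_rfl (h1 hv) hx) ((UL 1).inv_mem hx)⟩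

theorem upper_step {N : Subgroup GG} (hn : ∀ p ∈ PP, ∀ x ∈ N, p * x * p⁻¹ ∈ N) {l : ℤ} (h2 : 2 ≤ l) (h6 : l ≤ 6)
    (h1 : N ≤ UL l) (hg : ∀ v ∈ N, gg * v * gg ∈ UL l) : N ≤ UL (l + 1) := by
  refine descend hn (by omega) h6 h1 le_rfl (fun v hv => by rw [gg_inv]; exact hg v hv) fun h => ?_
  obtain ⟨-, -, -, hd⟩ := tops (l := l) (by omega) h6
  have := lev_pos_of_xe (by omega) (r := ⟨auxE8.w 3 (drop l), certE8.w_lt three_lt hd⟩) h
  have h3 := drop_lev (l := l) (by omega) h6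
  exact absurd this (not_le.2 h3)

/-- The upper bound. -/
theorem seq_upper : ∀ i : ℕ, i < 6 →
    (seqAB (i + 1)).1 ≤ UL ((i : ℤ) + 2) ∧ ∀ v ∈ (seqAB (i + 1)).2, gg * v * gg ∈ UL ((i : ℤ) + 2) := by
  intro i
  induction i with
  | zero =>
    intro _
    constructor
    · exact upper_base (N := coreIn PP (PP ⊓ PP2)) (fun p hp x hx => coreIn_conj hp hx) coreIn_le_left
        fun v hv => mem_PP2.1 (coreIn_le_right hv).2
    · intro v hv
      have hN := upper_base (N := (coreIn PP2 (PP ⊓ PP2)).map (MulAut.conj gg).toMonoidHom) ?_ ?_ ?_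
      · refine hN ⟨v, hv, ?_⟩
        rw [MulEquiv.coe_toMonoidHom, MulAut.conj_apply, gg_inv]
      · rintro p hp _ ⟨z, hz, rfl⟩
        refine ⟨_, coreIn_conj (p := gg * p * gg) (mem_PP2.2 (by rw [gg_gg]; exact hp)) hz, ?_⟩
        rw [MulEquiv.coe_toMonoidHom, MulAut.conj_apply, MulAut.conj_apply, gg_inv]
        exact conj_conj_involution (G := GG) gg_inv p z
      · rintro _ ⟨z, hz, rfl⟩
        rw [MulEquiv.coe_toMonoidHom, MulAut.conj_apply, gg_inv]
        exact mem_PP2.1 (coreIn_le_left hz)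
      · rintro _ ⟨z, hz, rfl⟩
        rw [MulEquiv.coe_toMonoidHom, MulAut.conj_apply, gg_inv, gg_gg]
        exact (coreIn_le_right hz).1
  | succ i ih =>
    intro hi
    obtain ⟨ihA, ihB⟩ := ih (by omega)
    rw [show ((i + 1 : ℕ) : ℤ) + 2 = (i : ℤ) + 2 + 1 by push_cast; ring]
    constructor
    · exact upper_step (N := coreIn PP ((seqAB (i + 1)).1 ⊓ (seqAB (i + 1)).2)) (fun p hp x hx => coreIn_conj hp hx)
        (by omega) (by omega) (fun v hv => ihA (coreIn_le_right hv).1) fun v hv => ihB v (coreIn_le_right hv).2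
    · intro v hv
      have hN := upper_step (N := (coreIn PP2 ((seqAB (i + 1)).1 ⊓ (seqAB (i + 1)).2)).map
        (MulAut.conj gg).toMonoidHom) ?_ (show (2 : ℤ) ≤ (i : ℤ) + 2 by omega) (by omega) ?_ ?_
      · refine hN ⟨v, hv, ?_⟩
        rw [MulEquiv.coe_toMonoidHom, MulAut.conj_apply, gg_inv]
      · rintro p hp _ ⟨z, hz, rfl⟩
        refine ⟨_, coreIn_conj (p := gg * p * gg) (mem_PP2.2 (by rw [gg_gg]; exact hp)) hz, ?_⟩
        rw [MulEquiv.coe_toMonoidHom, MulAut.conj_apply, MulAut.conj_apply, gg_inv]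
        exact conj_conj_involution (G := GG) gg_inv p z
      · rintro _ ⟨z, hz, rfl⟩
        rw [MulEquiv.coe_toMonoidHom, MulAut.conj_apply, gg_inv]
        exact ihB z (coreIn_le_right hz).2
      · rintro _ ⟨z, hz, rfl⟩
        rw [MulEquiv.coe_toMonoidHom, MulAut.conj_apply, gg_inv, gg_gg]
        exact ihA (coreIn_le_right hz).1

theorem seq_six : (seqAB 6).1 = ⊥ := by
  rw [eq_bot_iff, ← UL_seven]
  exact (seq_upper 5 (by norm_num)).1

theorem seq_five : (seqAB 5).1 ≠ ⊥ := by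
  intro h
  obtain ⟨h1, h2, -, -⟩ := tops (l := 6) (by norm_num) le_rfl
  have hle : UL 6 ≤ (seqAB 5).1 := by simpa using (seq_lower 5).1
  have h3 := hle (mem_UL (by norm_num) (r := ⟨top 6, h2⟩) h1.ge 1)
  rw [h, Subgroup.mem_bot, ← RR.xe_zero (top 6)] at h3
  exact one_ne_zero (RR.xe_inj_param (r := ⟨top 6, h2⟩) h3)

theorem PP_core : PP.normalCore = ⊥ := by
  have hs := (isSimple certE8 (ZMod 2) (connected_of_mem (by simp))
    (perfectData_of_mem (by simp) (ZMod 2) (fun h => by rcases h with h | h <;> exact absurd (congrArg ChevalleyDatum.rank h) (by decide)))).1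
  exact (hs.2 PP.normalCore (Subgroup.normalCore_normal _)).resolve_right fun h =>
    PP_coatom.1 (eq_top_iff.2 (h.symm.le.trans (Subgroup.normalCore_le _)))

theorem PP_ne : PP ≠ PP2 := by
  intro h
  refine simple_neg_not_mem ?_
  rw [h, mem_PP2]
  obtain ⟨a, ha⟩ := gg_mon
  have h1 := conj_xe ha (RR.negF (RR.sroot br))
  rw [gg_inv] at h1
  rw [h1, show RR.wperm br (RR.negF (RR.sroot br)) = RR.sroot br by
    rw [← RR.wperm_sroot br, ← Equiv.Perm.mul_apply, RR.wperm_mul_self, Equiv.Perm.one_apply]]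
  exact UP_le_PP (RR.xe_mem_US (show RR.sroot br ∈ posSet chevE8 from RR.sroot_pos br) 1)

end CfsgLib.Geo.E8Core
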